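import Groth.Agent.BlowRegLib.QuotDescend
import Groth.Agent.AlgSpLib.Bootstrap
import Groth.Agent.AlgSpLib.AffineDescent
import Groth.Agent.DescLib.Main
import Groth.Agent.DescLib.Open
import Groth.Agent.SubDescLib.Fpqc

/-!
# An fppf sheaf which is fppf locally affine over the base is representable
-/

set_option autoImplicit false
set_option backward.isDefEq.respectTransparency false
set_option backward.isDefEq.respectTransparency.types false
set_option linter.style.haveILetI false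

noncomputable section

universe u

open CategoryTheory CategoryTheory.Limits AlgebraicGeometry Opposite AlgSp AlgSpLib

namespace Groth.Agent.ShRep

variable {S S' : Scheme.{u}}

local notation "K" => Scheme.fppfPrecoverage

theorem repMap_comp {V W X : Over S} (g : V ⟶ W) (h : W ⟶ X) :
    QuotSh.repMap K (g ≫ h) = QuotSh.repMap K g ≫ QuotSh.repMap K h := by
  simp only [QuotSh.repMap, Functor.map_comp, Functor.whiskerRight_comp]

theorem repMap_surj {V W : Over S} (φ : QuotSh.rep K V ⟶ QuotSh.rep K W) : ∃ g : V ⟶ W, QuotSh.repMap K g = φ := by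
  refine ⟨(yon S).preimage ((QuotSh.repIsoUliftYoneda K V).inv ≫ φ ≫ (QuotSh.repIsoUliftYoneda K W).hom), ?_⟩
  rw [← cancel_mono (QuotSh.repIsoUliftYoneda K W).hom, repIso_naturality, Functor.map_preimage, Iso.hom_inv_id_assoc]

theorem repMap_inj {V W : Over S} {g h : V ⟶ W} (e : QuotSh.repMap K g = QuotSh.repMap K h) : g = h := by
  apply (yon S).map_injective
  rw [← cancel_epi (QuotSh.repIsoUliftYoneda K V).hom, ← repIso_naturality, ← repIso_naturality, e]

section cover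

variable (F : QuotSh.Sh K S) {T V : Over S} (q : V ⟶ T) [Flat q.left] [Surjective q.left]
  [LocallyOfFinitePresentation q.left]

/-- Morphisms out of the sheaf of `T` are glued from an fppf covering of `T`. -/
theorem existsUnique_glue (φ : QuotSh.rep K V ⟶ F)
    (h : ∀ (P : Over S) (z₁ z₂ : P ⟶ V), z₁ ≫ q = z₂ ≫ q → QuotSh.repMap K z₁ ≫ φ = QuotSh.repMap K z₂ ≫ φ) :
    ∃! σ : QuotSh.rep K T ⟶ F, QuotSh.repMap K q ≫ σ = φ := by
  have hcov : Sieve.generate (Presieve.singleton q) ∈ QuotSh.J K S T := by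
    rw [GrothendieckTopology.mem_over_iff, Sieve.overEquiv_generate]
    refine GrothendieckTopology.superset_covering _ ?_
      (Precoverage.generate_mem_toGrothendieck (Scheme.Hom.singleton_mem_fppfPrecoverage q.left))
    refine (Sieve.generate_le_iff _ _).2 ?_
    rintro _ _ ⟨⟩
    exact Sieve.le_generate _ _ _ ⟨V, q, 𝟙 _, ⟨⟩, (Category.id_comp _).symm⟩
  have hsh : Presieve.IsSheafFor F.obj (Presieve.singleton q) :=
    Presieve.isSheafFor_iff_generate _ |>.2 ((isSheaf_iff_isSheaf_of_type _ _).1 F.property _ hcov)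
  obtain ⟨y, hy, huniq⟩ := Presieve.isSheafFor_singleton.1 hsh (BlowRegLib.repEquiv F V φ) fun {P} z₁ z₂ hz => by
    rw [BlowRegLib.map_repEquiv, BlowRegLib.map_repEquiv, h P z₁ z₂ hz]
  refine ⟨(BlowRegLib.repEquiv F T).symm y, (BlowRegLib.repEquiv F V).injective ?_, fun σ hσ => ?_⟩
  · rw [← BlowRegLib.map_repEquiv, Equiv.apply_symm_apply, hy]
  · rw [Equiv.eq_symm_apply]
    exact huniq _ ((BlowRegLib.map_repEquiv F q σ).trans (congrArg _ hσ))

theorem glue_ext {σ τ : QuotSh.rep K T ⟶ F} (h : QuotSh.repMap K q ≫ σ = QuotSh.repMap K q ≫ τ) : σ = τ :=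
  (existsUnique_glue F q (QuotSh.repMap K q ≫ τ) fun P z₁ z₂ hz => by
    rw [← Category.assoc, ← Category.assoc, ← repMap_comp, ← repMap_comp, hz]).unique h rfl

end cover

theorem isIso_of_bijective {U : Over S} {F : QuotSh.Sh K S} (σ : QuotSh.rep K U ⟶ F)
    (h : ∀ V : Over S, Function.Bijective fun g : QuotSh.rep K V ⟶ QuotSh.rep K U => g ≫ σ) : IsIso σ := by
  have happ : ∀ V : Over S, IsIso (σ.hom.app (op V)) := fun V => by
    rw [isIso_iff_bijective]
    have he : (σ.hom.app (op V) : _ → _) =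
        BlowRegLib.repEquiv F V ∘ (fun g => g ≫ σ) ∘ (BlowRegLib.repEquiv (QuotSh.rep K U) V).symm := by
      funext x
      obtain ⟨g, rfl⟩ := (BlowRegLib.repEquiv (QuotSh.rep K U) V).surjective x
      rw [Function.comp_apply, Function.comp_apply, Equiv.symm_apply_apply]
      simp only [BlowRegLib.repEquiv, Equiv.trans_apply, Adjunction.homEquiv_naturality_right]
      exact (uliftYonedaEquiv_comp _ _).symm
    rw [he]
    exact ((Equiv.bijective _).comp (h V)).comp (Equiv.bijective _)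
  haveI : ∀ V, IsIso (σ.hom.app V) := fun V => happ V.unop
  haveI : IsIso σ.hom := NatIso.isIso_of_isIso_app _
  haveI : IsIso ((sheafToPresheaf (QuotSh.J Scheme.fppfPrecoverage S) (Type (u + 1))).map σ) := ‹IsIso σ.hom›
  exact isIso_of_fully_faithful (sheafToPresheaf _ _) σ

variable {f : S' ⟶ S} {Z : QuotSh.Sh K S} {T' : Over S} {a : T' ⟶ Over.mk f}
  (φ : QuotSh.rep K T' ≅ Z ⨯ QuotSh.rep K (Over.mk f))

/-- The component in `Z` of a point of `T'`. -/
def zc {V : Over S} (v : V ⟶ T') : QuotSh.rep K V ⟶ Z := QuotSh.repMap K v ≫ φ.hom ≫ prod.fst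

theorem zc_comp {P V : Over S} (g : P ⟶ V) (v : V ⟶ T') : zc φ (g ≫ v) = QuotSh.repMap K g ≫ zc φ v := by
  rw [zc, zc, repMap_comp, Category.assoc]

variable (hφ : φ.hom ≫ prod.snd = QuotSh.repMap K a)

include hφ in
theorem existsUnique_lift {V : Over S} (z : QuotSh.rep K V ⟶ Z) (x : V ⟶ Over.mk f) :
    ∃! v : V ⟶ T', v ≫ a = x ∧ zc φ v = z := by
  obtain ⟨v, hv⟩ := repMap_surj (prod.lift z (QuotSh.repMap K x) ≫ φ.inv)
  refine ⟨v, ⟨repMap_inj ?_, ?_⟩, fun w ⟨hw, hw'⟩ => repMap_inj ?_⟩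
  · rw [repMap_comp, hv, ← hφ, Category.assoc, Iso.inv_hom_id_assoc, prod.lift_snd]
  · rw [zc, hv, Category.assoc, Iso.inv_hom_id_assoc, prod.lift_fst]
  · rw [hv, Iso.eq_comp_inv]
    apply prod.hom_ext
    · rw [prod.lift_fst, Category.assoc]; exact hw'
    · rw [prod.lift_snd, Category.assoc, hφ, ← repMap_comp, hw]

/-- Two points of `T'` with the same component in `Z`. -/
def Same {T : Scheme.{u}} (v w : T ⟶ T'.left) : Prop :=
  v ≫ T'.hom = w ≫ T'.hom ∧ ∀ (b : T ⟶ S) (hv : v ≫ T'.hom = b) (hw : w ≫ T'.hom = b),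
    zc φ (Over.homMk v hv : Over.mk b ⟶ T') = zc φ (Over.homMk w hw : Over.mk b ⟶ T')

theorem Same.symm' {T : Scheme.{u}} {v w : T ⟶ T'.left} (h : Same φ v w) : Same φ w v :=
  ⟨h.1.symm, fun b hw hv => (h.2 b hv hw).symm⟩

theorem Same.trans' {T : Scheme.{u}} {u v w : T ⟶ T'.left} (h : Same φ u v) (h' : Same φ v w) : Same φ u w :=
  ⟨h.1.trans h'.1, fun b hu hw => (h.2 b hu (h.1.symm.trans hu)).trans (h'.2 b (h.1.symm.trans hu) hw)⟩

theorem Same.precomp {T P : Scheme.{u}} (g : P ⟶ T) {v w : T ⟶ T'.left} (h : Same φ v w) :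
    Same φ (g ≫ v) (g ≫ w) := by
  refine ⟨by rw [Category.assoc, Category.assoc, h.1], fun b hv hw => ?_⟩
  let g' : Over.mk b ⟶ Over.mk (v ≫ T'.hom) := Over.homMk g (by simpa [Category.assoc] using hv)
  rw [show (Over.homMk (g ≫ v) hv : Over.mk b ⟶ T') = g' ≫ (Over.homMk v rfl : Over.mk (v ≫ T'.hom) ⟶ T') from
      Over.OverMorphism.ext rfl,
    show (Over.homMk (g ≫ w) hw : Over.mk b ⟶ T') = g' ≫ (Over.homMk w h.1.symm : Over.mk (v ≫ T'.hom) ⟶ T') from
      Over.OverMorphism.ext rfl,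
    zc_comp, zc_comp, h.2 _ rfl h.1.symm]

theorem Same.of_eq {V : Over S} {v w : V ⟶ T'} (h : zc φ v = zc φ w) : Same φ v.left w.left := by
  refine ⟨(Over.w v).trans (Over.w w).symm, fun b hv hw => ?_⟩
  let g' : Over.mk b ⟶ V := Over.homMk (𝟙 _) (by rw [Category.id_comp, ← hv]; exact (Over.w v).symm)
  rw [show (Over.homMk v.left hv : Over.mk b ⟶ T') = g' ≫ v from Over.OverMorphism.ext (Category.id_comp _).symm,
    show (Over.homMk w.left hw : Over.mk b ⟶ T') = g' ≫ w from Over.OverMorphism.ext (Category.id_comp _).symm,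
    zc_comp, zc_comp, h]

theorem Same.zc_eq {V : Over S} {v w : V ⟶ T'} (h : Same φ v.left w.left) : zc φ v = zc φ w := by
  let g' : V ⟶ Over.mk V.hom := Over.homMk (𝟙 _) (Category.id_comp _)
  rw [show v = g' ≫ (Over.homMk v.left (Over.w v) : Over.mk V.hom ⟶ T') from Over.OverMorphism.ext (Category.id_comp _).symm,
    show w = g' ≫ (Over.homMk w.left (Over.w w) : Over.mk V.hom ⟶ T') from Over.OverMorphism.ext (Category.id_comp _).symm,
    zc_comp, zc_comp, h.2 _ (Over.w v) (Over.w w)]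

include hφ in
theorem Same.eq_of {T : Scheme.{u}} {v w : T ⟶ T'.left} (h : Same φ v w) (ha : v ≫ a.left = w ≫ a.left) :
    v = w := by
  obtain ⟨u, -, huniq⟩ := existsUnique_lift φ hφ (zc φ (Over.homMk v rfl : Over.mk (v ≫ T'.hom) ⟶ T'))
    ((Over.homMk v rfl : Over.mk (v ≫ T'.hom) ⟶ T') ≫ a)
  exact congrArg CommaMorphism.left ((huniq _ ⟨rfl, rfl⟩).trans
    (huniq (Over.homMk w h.1.symm) ⟨Over.OverMorphism.ext ha.symm, (h.2 _ rfl h.1.symm).symm⟩).symm)

include hφ in
theorem exists_same {T : Scheme.{u}} (v : T ⟶ T'.left) (x : T ⟶ S') (hx : x ≫ f = (v ≫ a.left) ≫ f) :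
    ∃ w : T ⟶ T'.left, w ≫ a.left = x ∧ Same φ v w := by
  have hv : v ≫ T'.hom = x ≫ f := by rw [hx, Category.assoc]; exact congrArg (v ≫ ·) (Over.w a).symm
  obtain ⟨w, ⟨hw, hw'⟩, -⟩ := existsUnique_lift φ hφ (zc φ (Over.homMk v hv : Over.mk (x ≫ f) ⟶ T'))
    (Over.homMk x rfl)
  exact ⟨w.left, congrArg CommaMorphism.left hw, Same.of_eq φ hw'.symm⟩

/-- The point over `x` with the same component. -/
def movePt {T : Scheme.{u}} (v : T ⟶ T'.left) (x : T ⟶ S') (hx : x ≫ f = (v ≫ a.left) ≫ f) : T ⟶ T'.left :=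
  (exists_same φ hφ v x hx).choose

theorem movePt_fst {T : Scheme.{u}} (v : T ⟶ T'.left) (x : T ⟶ S') (hx : x ≫ f = (v ≫ a.left) ≫ f) :
    movePt φ hφ v x hx ≫ a.left = x :=
  (exists_same φ hφ v x hx).choose_spec.1

theorem movePt_same {T : Scheme.{u}} (v : T ⟶ T'.left) (x : T ⟶ S') (hx : x ≫ f = (v ≫ a.left) ≫ f) :
    Same φ v (movePt φ hφ v x hx) :=
  (exists_same φ hφ v x hx).choose_spec.2

theorem movePt_eq {T : Scheme.{u}} {v w : T ⟶ T'.left} {x : T ⟶ S'} {hx : x ≫ f = (v ≫ a.left) ≫ f}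
    (hw : w ≫ a.left = x) (h : Same φ v w) : movePt φ hφ v x hx = w :=
  Same.eq_of φ hφ ((Same.symm' φ (movePt_same φ hφ v x hx)).trans' φ h) ((movePt_fst φ hφ v x hx).trans hw.symm)

theorem Same.refl' {T : Scheme.{u}} (v : T ⟶ T'.left) : Same φ v v := ⟨rfl, fun _ _ _ => rfl⟩

/-- The descent datum of `T'`. -/
def dd : Desc.SchDD f where
  obj := Over.mk a.left
  φ T x₀ x₁ h :=
    { toFun := fun v => ⟨movePt φ hφ v.1 x₁ (h.symm.trans (congrArg (· ≫ f) v.2.symm)), movePt_fst φ hφ _ _ _⟩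
      invFun := fun v => ⟨movePt φ hφ v.1 x₀ (h.trans (congrArg (· ≫ f) v.2.symm)), movePt_fst φ hφ _ _ _⟩
      left_inv := fun v => Subtype.ext (by
        dsimp only
        exact movePt_eq φ hφ v.2 (Same.symm' φ (movePt_same φ hφ v.1 x₁ (h.symm.trans (congrArg (· ≫ f) v.2.symm)))))
      right_inv := fun v => Subtype.ext (by
        dsimp only
        exact movePt_eq φ hφ v.2 (Same.symm' φ (movePt_same φ hφ v.1 x₀ (h.trans (congrArg (· ≫ f) v.2.symm))))) }
  φ_natural T P g x₀ x₁ h h' v v' hv := by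
    dsimp only [Equiv.coe_fn_mk]
    refine movePt_eq φ hφ ((Category.assoc _ _ _).trans (congrArg (g ≫ ·) (movePt_fst φ hφ _ _ _))) ?_
    rw [hv]
    exact (movePt_same φ hφ _ _ _).precomp φ g
  φ_self T x v := Subtype.ext (by
    dsimp only [Equiv.coe_fn_mk]
    exact movePt_eq φ hφ v.2 (Same.refl' φ _))
  φ_comp T x₀ x₁ x₂ h₀₁ h₁₂ v := Subtype.ext (by
    dsimp only [Equiv.coe_fn_mk]
    exact movePt_eq φ hφ (movePt_fst φ hφ _ _ _)
      ((Same.symm' φ (movePt_same φ hφ _ _ _)).trans' φ (movePt_same φ hφ _ _ _)))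

theorem dd_same {T : Scheme.{u}} (x₀ x₁ : T ⟶ S') (h : x₀ ≫ f = x₁ ≫ f) (v : Desc.Lifts (dd φ hφ).obj x₀) :
    Same φ v.1 ((dd φ hφ).φ x₀ x₁ h v).1 :=
  movePt_same φ hφ v.1 x₁ (h.symm.trans (congrArg (· ≫ f) v.2.symm))

include hφ in
theorem exists_rep [Flat f] [Surjective f] [LocallyOfFinitePresentation f] [IsAffineHom a.left] :
    ∃ T : Over S, IsAffineHom T.hom ∧ Nonempty (QuotSh.rep K T ≅ Z) := by
  haveI : DescLib.Fpqc f :=
    ⟨Scheme.fppfPrecoverage_le_fpqcPrecoverage _ (Scheme.Hom.singleton_mem_fppfPrecoverage f)⟩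
  haveI : IsAffineHom (dd φ hφ).obj.hom := ‹IsAffineHom a.left›
  obtain ⟨U, ⟨e⟩⟩ := DescLib.effective_of_isAffineHom (dd φ hφ)
  let E : pullback f U.hom ⟶ T'.left := e.hom.hom.left
  let E' : T'.left ⟶ pullback f U.hom := e.inv.hom.left
  have hEa : E ≫ a.left = pullback.fst f U.hom := Over.w e.hom.hom
  have hE'a : E' ≫ pullback.fst f U.hom = a.left := Over.w e.inv.hom
  have hEE : E ≫ E' = 𝟙 _ := congrArg (fun t => t.hom.left) e.hom_inv_id
  have hEE' : E' ≫ E = 𝟙 _ := congrArg (fun t => t.hom.left) e.inv_hom_id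
  haveI : IsAffineHom U.hom := by
    refine SubDesc.prop_of_fpqc @IsAffineHom f U.hom ?_
    have h1 : IsAffineHom (pullback.fst f U.hom) := by
      haveI : IsIso E := ⟨E', hEE, hEE'⟩
      rw [← hEa]; infer_instance
    rw [← pullbackSymmetry_hom_comp_fst]
    infer_instance
  let U' : Over S := Over.mk (pullback.snd f U.hom ≫ U.hom)
  let q : U' ⟶ U := Over.homMk (pullback.snd f U.hom) rfl
  haveI : Flat q.left := MorphismProperty.pullback_snd _ _ ‹Flat f›
  haveI : Surjective q.left := MorphismProperty.pullback_snd _ _ ‹Surjective f›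
  haveI : LocallyOfFinitePresentation q.left := MorphismProperty.pullback_snd _ _ ‹LocallyOfFinitePresentation f›
  let EO : U' ⟶ T' := Over.homMk E (by
    show E ≫ T'.hom = pullback.snd f U.hom ≫ U.hom
    rw [← Over.w a, ← Category.assoc, hEa]
    exact pullback.condition)
  -- points of `U` over the cover have the expected components
  have hcomm : ∀ {P : Over S} (z₁ z₂ : P ⟶ U'), z₁ ≫ q = z₂ ≫ q → zc φ (z₁ ≫ EO) = zc φ (z₂ ≫ EO) := by
    intro P z₁ z₂ hz
    have hz' : z₁.left ≫ pullback.snd f U.hom = z₂.left ≫ pullback.snd f U.hom := congrArg CommaMorphism.left hz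
    have hx : (z₁.left ≫ pullback.fst f U.hom) ≫ f = (z₂.left ≫ pullback.fst f U.hom) ≫ f := by
      rw [Category.assoc, Category.assoc, pullback.condition, reassoc_of% hz']
    let v : Desc.Lifts ((Desc.toDD f).obj U).obj (z₁.left ≫ pullback.fst f U.hom) := ⟨z₁.left, rfl⟩
    let w : Desc.Lifts (dd φ hφ).obj (z₁.left ≫ pullback.fst f U.hom) :=
      ⟨z₁.left ≫ E, (Category.assoc _ _ _).trans (congrArg (z₁.left ≫ ·) hEa)⟩
    have h1 := e.hom.comm _ _ hx v w rfl
    have h2 : (((Desc.toDD f).obj U).φ _ _ hx v).1 = z₂.left := by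
      show (Desc.canMap f U _ _ hx v).1 = _
      rw [Desc.canMap_val]
      apply pullback.hom_ext
      · rw [pullback.lift_fst]
      · rw [pullback.lift_snd]; exact hz'
    rw [h2] at h1
    refine Same.zc_eq φ ?_
    show Same φ (z₁.left ≫ E) (z₂.left ≫ E)
    rw [← h1]
    exact dd_same φ hφ _ _ hx w
  obtain ⟨σ, hσ, -⟩ := existsUnique_glue Z q (zc φ EO) fun P z₁ z₂ hz => by
    rw [← zc_comp, ← zc_comp]; exact hcomm z₁ z₂ hz
  refine ⟨U, inferInstance, ?_⟩
  -- the pullback of the cover to a scheme over `S`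
  have hcover : ∀ V : Over S, ∃ (V' : Over S) (r : V' ⟶ V) (_ : V' ⟶ Over.mk f), Flat r.left ∧ Surjective r.left ∧
      LocallyOfFinitePresentation r.left := fun V =>
    ⟨Over.mk (pullback.snd f V.hom ≫ V.hom), Over.homMk (pullback.snd f V.hom) rfl,
      Over.homMk (pullback.fst f V.hom) pullback.condition, MorphismProperty.pullback_snd _ _ ‹Flat f›,
      MorphismProperty.pullback_snd _ _ ‹Surjective f›, MorphismProperty.pullback_snd _ _ ‹LocallyOfFinitePresentation f›⟩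
  -- points of `T'` give points of `U`
  let toU : ∀ {P : Over S}, (P ⟶ U) → (P ⟶ Over.mk f) → (P ⟶ U') := fun {P} g x =>
    Over.homMk (pullback.lift x.left g.left ((Over.w x).trans (Over.w g).symm))
      (by show pullback.lift x.left g.left _ ≫ pullback.snd f U.hom ≫ U.hom = P.hom
          rw [pullback.lift_snd_assoc]; exact Over.w g)
  have hq : ∀ {P : Over S} (g : P ⟶ U) (x : P ⟶ Over.mk f), toU g x ≫ q = g := fun g x =>
    Over.OverMorphism.ext (pullback.lift_snd _ _ _)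
  have hinj : ∀ (V : Over S) (g g' : V ⟶ U), QuotSh.repMap K g ≫ σ = QuotSh.repMap K g' ≫ σ → g = g' := by
    intro V g g' hgg
    obtain ⟨V', r, x, h1, h2, h3⟩ := hcover V
    haveI := h1; haveI := h2; haveI := h3
    have hz : ∀ g : V ⟶ U, zc φ (toU (r ≫ g) x ≫ EO) = QuotSh.repMap K r ≫ QuotSh.repMap K g ≫ σ := fun g => by
      rw [zc_comp, ← hσ, ← Category.assoc, ← repMap_comp, hq, repMap_comp, Category.assoc]
    have hx : ∀ g : V ⟶ U, (toU (r ≫ g) x ≫ EO) ≫ a = x := fun g => Over.OverMorphism.ext (by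
      show (pullback.lift x.left _ _ ≫ E) ≫ a.left = x.left
      rw [Category.assoc, hEa, pullback.lift_fst])
    have h4 := (existsUnique_lift φ hφ (zc φ (toU (r ≫ g) x ≫ EO)) x).unique ⟨hx g, rfl⟩
      ⟨hx g', by rw [hz, hz, hgg]⟩
    have h5 : toU (r ≫ g) x = toU (r ≫ g') x := Over.OverMorphism.ext (by
      have h6 := congrArg (fun t => CommaMorphism.left t ≫ E') h4
      simp only [Over.comp_left, EO, Over.homMk_left, Category.assoc, hEE] at h6
      exact (Category.comp_id _).symm.trans (h6.trans (Category.comp_id _)))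
    apply repMap_inj
    refine glue_ext (QuotSh.rep K U) r ?_
    rw [← repMap_comp, ← repMap_comp, ← hq (r ≫ g) x, ← hq (r ≫ g') x, h5]
  have hsurj : ∀ (V : Over S) (z : QuotSh.rep K V ⟶ Z), ∃ g : V ⟶ U, QuotSh.repMap K g ≫ σ = z := by
    intro V z
    obtain ⟨V', r, x, h1, h2, h3⟩ := hcover V
    haveI := h1; haveI := h2; haveI := h3
    obtain ⟨v, ⟨hv, hv'⟩, -⟩ := existsUnique_lift φ hφ (QuotSh.repMap K r ≫ z) x
    have hw : E' ≫ pullback.snd f U.hom ≫ U.hom = T'.hom := by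
      rw [← pullback.condition, reassoc_of% hE'a]; exact Over.w a
    let v' : V' ⟶ U' := v ≫ Over.homMk E' hw
    have hv'' : v' ≫ EO = v := Over.OverMorphism.ext (by
      show (v.left ≫ E') ≫ E = v.left
      rw [Category.assoc, hEE', Category.comp_id])
    have hz : QuotSh.repMap K (v' ≫ q) ≫ σ = QuotSh.repMap K r ≫ z := by
      rw [repMap_comp, Category.assoc, hσ, ← zc_comp, hv'', hv']
    obtain ⟨γ, hγ, -⟩ := existsUnique_glue (QuotSh.rep K U) r (QuotSh.repMap K (v' ≫ q)) fun P z₁ z₂ h => by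
      rw [← repMap_comp, ← repMap_comp]
      refine congrArg _ (hinj P _ _ ?_)
      have e1 : ∀ z : P ⟶ V', QuotSh.repMap K (z ≫ v' ≫ q) ≫ σ = QuotSh.repMap K (z ≫ r) ≫ _ := fun z' => by
        rw [repMap_comp z' (v' ≫ q), Category.assoc, hz, ← Category.assoc, ← repMap_comp]
      rw [e1, e1, h]
    obtain ⟨g, rfl⟩ := repMap_surj γ
    refine ⟨g, glue_ext Z r ?_⟩
    rw [← Category.assoc, hγ, hz]
  haveI : IsIso σ := isIso_of_bijective σ fun V => ⟨fun γ γ' h => by
      obtain ⟨g, rfl⟩ := repMap_surj γ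
      obtain ⟨g', rfl⟩ := repMap_surj γ'
      rw [hinj V g g' h],
    fun z => by
      obtain ⟨g, hg⟩ := hsurj V z
      exact ⟨_, hg⟩⟩
  exact ⟨asIso σ⟩

end Groth.Agent.ShRep
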